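import Cfsg.Agent.H348.PPD.Dich
import Cfsg.Agent.H424.DegTools
import Cfsg.Agent.H55.OutGen
import Cfsg.Agent.H417.DegMTwentyTwo
import Cfsg.Agent.S1663
import Cfsg.Agent.S2062
import Cfsg.Agent.H704.S8.Defs

/-!
# Degrees of `Aut X`, `|Out X| = 2`, and the degrees of the Mathieu group of degree 22 (helper109)

* `deg_index_two` : a degree of a group with a normal subgroup `N` of index two is a degree of `N` or twice the degree
  of two different characters of `N`;
* `deg_aut` : the same for `Aut X`;
* `deg_m22` : the degrees of `M22`; `deg_sub` : a superset of the degrees of `M22` and of `Aut M22`.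
-/

set_option autoImplicit false

open scoped ComplexConjugate
open Cfsg Cfsg.Agent.Characters.Core Cfsg.Agent.Characters.Clifford Cfsg.Agent.H424.DegTools

namespace Cfsg.Agent.H109.S8

universe u v

section Gen

variable {G : Type u} [Group G] [Finite G]

theorem deg_index_two (N : Subgroup G) [N.Normal] (h2 : N.index = 2) {e : ℕ} (he : e ∈ charDegrees G) :
    e ∈ charDegrees N ∨ ∃ (χ χ' : IrrCharacter N) (f : ℕ), χ ≠ χ' ∧ (χ : N → ℂ) 1 = f ∧ (χ' : N → ℂ) 1 = f ∧
      e = 2 * f := by
  classical
  have := Fintype.ofFinite G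
  have := Fintype.ofFinite N
  have := finite_irr (G := N)
  have := Fintype.ofFinite (IrrCharacter N)
  obtain ⟨ψ, hψ, h1⟩ := mem_charDegrees.1 he
  have hψN := isCharacter_restrict N (isIrr_isCharacter hψ)
  rcases Cfsg.Agent.CharactersDeep.PrimeIndex.norm_restrict_prime_index N Nat.prime_two h2 hψ with h | h
  · left
    exact mem_charDegrees.2 ⟨_, isIrr_of_classInner_self hψN h, h1⟩
  · right
    obtain ⟨m, hm⟩ := exists_nat_comb hψN
    have hcoef : ∀ η : IrrCharacter N, classInner (fun n : N => ψ n) (η : N → ℂ) = m η := fun η => by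
      rw [hm, classInner_sum_nsmul_irr]
    have hsq : ∑ η : IrrCharacter N, m η ^ 2 = 2 := by
      have h1 := classInner_sum_smul_sum_smul (G := N) (fun η => (m η : ℂ)) (fun η => (m η : ℂ))
      simp only [Nat.cast_smul_eq_nsmul] at h1
      rw [← hm, h] at h1
      have h3 : ((∑ η : IrrCharacter N, m η ^ 2 : ℕ) : ℂ) = ((2 : ℕ) : ℂ) := by
        rw [h1]
        push_cast
        refine Finset.sum_congr rfl fun η _ => ?_
        rw [Complex.conj_natCast, sq]
      exact_mod_cast h3
    -- the multiplicities are at most one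
    have hle : ∀ η, m η ≤ 1 := by
      intro η
      have h3 : m η ^ 2 ≤ ∑ η : IrrCharacter N, m η ^ 2 :=
        Finset.single_le_sum (f := fun η => m η ^ 2) (fun _ _ => Nat.zero_le _) (Finset.mem_univ η)
      rw [hsq] at h3
      by_contra hcon
      have h4 : 2 ^ 2 ≤ m η ^ 2 := Nat.pow_le_pow_left (by omega) 2
      omega
    have hsum : ∑ η : IrrCharacter N, m η = 2 := by
      rw [← hsq]
      refine Finset.sum_congr rfl fun η _ => ?_
      have h3 := hle η
      interval_cases m η <;> rfl
    have hcard : (Finset.univ.filter fun η : IrrCharacter N => m η = 1).card = 2 := by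
      rw [← hsum, Finset.card_filter]
      refine Finset.sum_congr rfl fun η _ => ?_
      have h3 := hle η
      interval_cases m η <;> simp
    obtain ⟨a, b, hab, hs⟩ := Finset.card_eq_two.1 hcard
    have ha : m a = 1 := by
      have : a ∈ Finset.univ.filter fun η : IrrCharacter N => m η = 1 := by rw [hs]; simp
      simpa using this
    have hb : m b = 1 := by
      have : b ∈ Finset.univ.filter fun η : IrrCharacter N => m η = 1 := by rw [hs]; simp
      simpa using this
    have ha0 : classInner (fun n : N => ψ n) (a : N → ℂ) ≠ 0 := by rw [hcoef, ha]; simp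
    have hb0 : classInner (fun n : N => ψ n) (b : N → ℂ) ≠ 0 := by rw [hcoef, hb]; simp
    obtain ⟨x, hx⟩ := exists_conj_of_constituents N hψ a.2 b.2 ha0 hb0
    obtain ⟨f, -, hf⟩ := isIrr_apply_one a.2
    have hbf : (b : N → ℂ) 1 = f := by
      rw [hx]
      simpa using hf
    refine ⟨a, b, f, hab, hf, hbf, ?_⟩
    have h3 : (fun n : N => ψ n) = (a : N → ℂ) + (b : N → ℂ) := by
      rw [hm]
      rw [← Finset.sum_subset (Finset.subset_univ ({a, b} : Finset (IrrCharacter N)))]
      · rw [Finset.sum_pair hab, ha, hb, one_smul, one_smul]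
      · intro η _ hη
        have h4 : m η ≠ 1 := by
          intro h5
          apply hη
          rw [← hs]
          simpa using h5
        have h5 : m η = 0 := by
          have := hle η
          omega
        rw [h5, zero_smul]
    have h4 := congrFun h3 1
    simp only [OneMemClass.coe_one, Pi.add_apply, h1, hf, hbf] at h4
    have h5 : (e : ℂ) = ((2 * f : ℕ) : ℂ) := by
      rw [h4]
      push_cast
      ring
    exact_mod_cast h5

end Gen

/-- degrees of `Aut X`, `|Out X| = 2` -/
theorem deg_aut {X : Type v} [Group X] [Finite X] (hc : Subgroup.center X = ⊥)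
    (h2 : (MulAut.conj : X →* MulAut X).range.index = 2) {e : ℕ} (he : e ∈ charDegrees (MulAut X)) :
    e ∈ charDegrees X ∨ ∃ (χ χ' : IrrCharacter X) (f : ℕ), χ ≠ χ' ∧ (χ : X → ℂ) 1 = f ∧ (χ' : X → ℂ) 1 = f ∧
      e = 2 * f := by
  have : Finite (MulAut X) := inferInstance
  have hn : (MulAut.conj : X →* MulAut X).range.Normal := by
    constructor
    rintro _ ⟨x, rfl⟩ g
    exact ⟨g x, by ext y; simp [MulAut.conj_apply]⟩
  have hinj : Function.Injective (MulAut.conj : X →* MulAut X) := by
    rw [injective_iff_map_eq_one]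
    intro a ha
    rw [← Subgroup.mem_bot, ← hc, Subgroup.mem_center_iff]
    intro y
    have h1 : MulAut.conj a y = y := by rw [ha]; rfl
    rw [MulAut.conj_apply, mul_inv_eq_iff_eq_mul] at h1
    exact h1.symm
  let E : X ≃* (MulAut.conj : X →* MulAut X).range := MonoidHom.ofInjective hinj
  rcases deg_index_two _ h2 he with h | ⟨χ, χ', f, h3, h4, h5, h6⟩
  · left
    rwa [charDegrees_congr E]
  · right
    refine ⟨⟨_, isIrr_comp E.toMonoidHom E.surjective χ.2⟩, ⟨_, isIrr_comp E.toMonoidHom E.surjective χ'.2⟩, f, ?_, ?_,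
      ?_, h6⟩
    · intro h7
      apply h3
      apply Subtype.ext
      have h8 := congrArg Subtype.val h7
      funext y
      have h9 := congrFun h8 (E.symm y)
      simpa using h9
    · simpa using h4
    · simpa using h5

section M22

variable {X : Type v} [Group X]

theorem finite_m22 (hX : Cfsg.IsM22 X) : Finite X :=
  Nat.finite_of_card_ne_zero (by rw [hX.2]; norm_num)

theorem index_inn_m22 (hX : Cfsg.IsM22 X) : (MulAut.conj : X →* MulAut X).range.index = 2 := by
  have := finite_m22 hX
  obtain ⟨e⟩ := S1663.result hX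
  rw [← H55.OutGen.card_out_eq_index, H55.OutGen.card_out_congr e]
  exact S2062.result

theorem center_m22 (hX : Cfsg.IsM22 X) : Subgroup.center X = ⊥ := by
  have hs := hX.1
  have hn : (Subgroup.center X).Normal := inferInstance
  rcases hn.eq_bot_or_eq_top with h | h
  · exact h
  · exfalso
    have hcomm : ∀ a b : X, a * b = b * a := fun a b => by
      have : b ∈ Subgroup.center X := by rw [h]; trivial
      exact Subgroup.mem_center_iff.1 this a
    let _ : CommGroup X := { (inferInstance : Group X) with mul_comm := hcomm }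
    have := finite_m22 hX
    have h1 : (Nat.card X).Prime := IsSimpleGroup.prime_card
    rw [hX.2] at h1
    norm_num at h1

/-- the degrees of `M22` -/
theorem deg_m22 (hX : Cfsg.IsM22 X) :
    charDegrees X = ({1, 21, 45, 55, 99, 154, 210, 231, 280, 385} : Set ℕ) := by
  have := finite_m22 hX
  obtain ⟨f, hf⟩ := H417.DegMTwentyTwo.exists_enum hX
  ext d
  constructor
  · rintro ⟨χ, rfl⟩
    obtain ⟨i, rfl⟩ := f.surjective χ
    rw [hf i]
    fin_cases i <;> simp [M22.DegreesEnd.LB]
  · intro h
    simp only [Set.mem_insert_iff, Set.mem_singleton_iff] at h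
    rcases h with rfl | rfl | rfl | rfl | rfl | rfl | rfl | rfl | rfl | rfl
    · exact ⟨f 0, hf 0⟩
    · exact ⟨f 1, hf 1⟩
    · exact ⟨f 2, hf 2⟩
    · exact ⟨f 4, hf 4⟩
    · exact ⟨f 5, hf 5⟩
    · exact ⟨f 6, hf 6⟩
    · exact ⟨f 7, hf 7⟩
    · exact ⟨f 8, hf 8⟩
    · exact ⟨f 9, hf 9⟩
    · exact ⟨f 11, hf 11⟩

/-- different characters of the same degree -/
theorem deg_pair (hX : Cfsg.IsM22 X) {χ χ' : IrrCharacter X} (h : χ ≠ χ') {d : ℕ} (h1 : (χ : X → ℂ) 1 = d)
    (h2 : (χ' : X → ℂ) 1 = d) : d = 45 ∨ d = 280 := by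
  have := finite_m22 hX
  obtain ⟨f, hf⟩ := H417.DegMTwentyTwo.exists_enum hX
  obtain ⟨i, rfl⟩ := f.surjective χ
  obtain ⟨j, rfl⟩ := f.surjective χ'
  have hi : M22.DegreesEnd.LB.getD i 0 = d := by
    rw [← hf i]
    have h3 := Blocks.Basic.irr_one_eq_charDegree (f i).2
    rw [h1] at h3
    exact_mod_cast h3.symm
  have hj : M22.DegreesEnd.LB.getD j 0 = d := by
    rw [← hf j]
    have h3 := Blocks.Basic.irr_one_eq_charDegree (f j).2
    rw [h2] at h3
    exact_mod_cast h3.symm
  have hij : i ≠ j := fun h3 => h (by rw [h3])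
  have key : ∀ i j : Fin 12, i ≠ j → M22.DegreesEnd.LB.getD i 0 = M22.DegreesEnd.LB.getD j 0 →
      M22.DegreesEnd.LB.getD i 0 = 45 ∨ M22.DegreesEnd.LB.getD i 0 = 280 := by decide
  rw [← hi]
  exact key i j hij (hi.trans hj.symm)

theorem deg_aut_m22 (hX : Cfsg.IsM22 X) {d : ℕ} (hd : d ∈ charDegrees (MulAut X)) :
    d ∈ charDegrees X ∨ d = 90 ∨ d = 560 := by
  have := finite_m22 hX
  rcases deg_aut (center_m22 hX) (index_inn_m22 hX) hd with h | ⟨χ, χ', f, h3, h4, h5, h6⟩
  · exact Or.inl h
  · right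
    rcases deg_pair hX h3 h4 h5 with rfl | rfl
    · exact Or.inl h6
    · exact Or.inr h6

/-- **a superset of the degrees** -/
theorem deg_sub (hX : Cfsg.IsM22 X) {D : Set ℕ} (hD : Cfsg.Agent.H704.S8.Deg 2 X D) :
    ∀ d ∈ D, d ∈ ({1, 21, 45, 55, 90, 99, 154, 210, 231, 280, 385, 560} : Set ℕ) := by
  intro d hd
  have h1 : d ∈ charDegrees X ∨ d = 90 ∨ d = 560 := by
    rcases hD with rfl | ⟨-, rfl⟩
    · exact Or.inl hd
    · exact deg_aut_m22 hX hd
  rw [deg_m22 hX] at h1
  simp only [Set.mem_insert_iff, Set.mem_singleton_iff] at h1 ⊢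
  omega

end M22

end Cfsg.Agent.H109.S8
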