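import Cfsg.Agent.H388.AN.Cen
import Cfsg.Agent.H704.S8.Defs

/-!
# The characters of a perfect central extension by a group of prime order (helper109)

* `exists_over_finset` : `N` perfect, `V` central of prime order `r`: a set `S` of irreducible characters of `N`,
  nontrivial on `V`, of degrees divisible by `r`, `∑ χ(1)² = |N : V|`, `|S| ≤ k(N / V)`.
* `cover_of` : a way to prove `Cover`: a contradiction from a multiset of degrees.
-/

set_option autoImplicit false

open Cfsg Cfsg.Agent.Characters.Core Cfsg.Agent.H424.DegTools Cfsg.Agent.H388.AN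

namespace Cfsg.Agent.H109.S8

universe u v

variable {N : Type u} [Group N] [Finite N]

theorem exists_lin_ne (V : Subgroup N) (hV : V ≠ ⊥) (hc : V ≤ Subgroup.center N) :
    ∃ l : V →* ℂˣ, ∃ v : V, l v ≠ 1 := by
  obtain ⟨v, hv, hv1⟩ := V.bot_or_exists_ne_one.resolve_left hV
  have h1 : ∃ χ : N → ℂ, IsIrrCharacter N χ ∧ χ v ≠ χ 1 := by
    by_contra hcon
    push Not at hcon
    exact hv1 (eq_one_of_forall hcon)
  obtain ⟨χ, hχ, hne⟩ := h1
  obtain ⟨l, hl⟩ := exists_lin hc hχ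
  refine ⟨l, ⟨v, hv⟩, fun h2 => hne ?_⟩
  have h3 := hl ⟨v, hv⟩
  rw [h2, Units.val_one, mul_one] at h3
  exact h3

open Classical in
theorem exists_over_finset (V : Subgroup N) [V.Normal] {r : ℕ} (hr : r.Prime) (hV : Nat.card V = r)
    (hc : V ≤ Subgroup.center N) (hp : commutator N = ⊤) :
    ∃ (l : V →* ℂˣ) (S : Finset (IrrCharacter N)), (∃ v : V, l v ≠ 1) ∧ (∀ χ : IrrCharacter N, χ ∈ S ↔ Over V l χ) ∧
      (∀ χ ∈ S, (∃ v ∈ V, (χ : N → ℂ) v ≠ (χ : N → ℂ) 1) ∧ r ∣ charDegree (χ : N → ℂ)) ∧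
      ∑ χ ∈ S, charDegree (χ : N → ℂ) ^ 2 = V.index ∧ S.card ≤ Nat.card (ConjClasses (N ⧸ V)) := by
  have hb : V ≠ ⊥ := by
    rintro rfl
    rw [Subgroup.card_bot] at hV
    exact hr.ne_one hV.symm
  obtain ⟨l, v, hv⟩ := exists_lin_ne V hb hc
  have := finite_irr (G := N)
  have := Fintype.ofFinite (IrrCharacter N)
  refine ⟨l, Finset.univ.filter fun χ : IrrCharacter N => Over V l χ, ⟨v, hv⟩, by simp, ?_, ?_, ?_⟩
  · intro χ hχ
    have h1 : Over V l χ := by simpa using hχ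
    refine ⟨⟨v, v.2, fun h2 => hv ?_⟩, ?_⟩
    · have h3 := h1 v
      rw [h2] at h3
      have h4 : (χ : N → ℂ) 1 * 1 = (χ : N → ℂ) 1 * l v := by rw [mul_one]; exact h3
      have h5 := mul_left_cancel₀ (isIrr_apply_one_ne_zero χ.2) h4
      exact Units.ext h5.symm
    · -- the order of `l v` is `r`
      have h2 : (l v) ^ r = 1 := by
        rw [← map_pow, ← hV, pow_card_eq_one', map_one]
      haveI : Fact r.Prime := ⟨hr⟩
      have h3 : orderOf (l v) = r := orderOf_eq_prime h2 hv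
      have h4 := pow_deg_eq_one hp χ.2 (Blocks.Basic.irr_one_eq_charDegree χ.2) (hc v.2) (h1 v)
      rw [← h3]
      apply orderOf_dvd_of_pow_eq_one
      apply Units.ext
      rw [Units.val_pow_eq_pow_val, Units.val_one]
      exact h4
  · rw [← sum_sq hc l, Finset.sum_filter]
  · have h1 := card_over_le hc l
    refine le_trans (le_of_eq ?_) h1
    rw [Nat.card_eq_fintype_card, Fintype.card_subtype]

theorem index_of_equiv {X : Type v} [Group X] (V : Subgroup N) [V.Normal] (e : (N ⧸ V) ≃* X) :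
    V.index = Nat.card X := by
  rw [Subgroup.index, Nat.card_congr e.toEquiv]

theorem classes_of_equiv {G : Type u} {X : Type v} [Group G] [Group X] (e : G ≃* X) :
    Nat.card (ConjClasses G) = Nat.card (ConjClasses X) := by
  refine Nat.card_congr ⟨ConjClasses.map e.toMonoidHom, ConjClasses.map e.symm.toMonoidHom, ?_, ?_⟩
  · rintro ⟨x⟩
    change ConjClasses.mk (e.symm (e x)) = ConjClasses.mk x
    rw [MulEquiv.symm_apply_apply]
  · rintro ⟨x⟩
    change ConjClasses.mk (e (e.symm x)) = ConjClasses.mk x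
    rw [MulEquiv.apply_symm_apply]

open Classical in
/-- **COVER from degrees.** `P d` : `d` is bad (`d r ^ i ∈ D` or `2 d r ^ i ∈ D` for some `i`). If a finite set of
characters of degrees divisible by `r`, all bad, with `∑ χ(1)² = |X|`, of size at most `k(X)`, is impossible, then
there is a good one. -/
theorem cover_of {X : Type v} [Group X] {D : Set ℕ} (V : Subgroup N) [V.Normal] {r : ℕ} (hr : r.Prime)
    (hV : Nat.card V = r) (hc : V ≤ Subgroup.center N) (hp : commutator N = ⊤) (e : (N ⧸ V) ≃* X)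
    (h : ∀ (S : Finset (IrrCharacter N)), (∀ χ ∈ S, r ∣ charDegree (χ : N → ℂ)) →
      (∀ χ ∈ S, ∃ i : ℕ, charDegree (χ : N → ℂ) * r ^ i ∈ D ∨ 2 * (charDegree (χ : N → ℂ) * r ^ i) ∈ D) →
      ∑ χ ∈ S, charDegree (χ : N → ℂ) ^ 2 = Nat.card X → S.card ≤ Nat.card (ConjClasses X) → False) :
    ∃ (χ : N → ℂ) (d : ℕ), IsIrrCharacter N χ ∧ (∃ v ∈ V, χ v ≠ χ 1) ∧ χ 1 = d ∧
      ∀ i : ℕ, d * r ^ i ∉ D ∧ 2 * (d * r ^ i) ∉ D := by
  obtain ⟨l, S, -, -, h2, h3, h4⟩ := exists_over_finset V hr hV hc hp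
  by_contra hcon
  push Not at hcon
  refine h S (fun χ hχ => (h2 χ hχ).2) (fun χ hχ => ?_) (by rw [h3, index_of_equiv V e])
    (by rwa [← classes_of_equiv e])
  obtain ⟨i, hi⟩ := hcon χ (charDegree (χ : N → ℂ)) χ.2 (h2 χ hχ).1 (Blocks.Basic.irr_one_eq_charDegree χ.2)
  by_cases h5 : charDegree (χ : N → ℂ) * r ^ i ∈ D
  · exact ⟨i, Or.inl h5⟩
  · exact ⟨i, Or.inr (hi h5)⟩

end Cfsg.Agent.H109.S8
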