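import Cfsg.Agent.H618.LD.Blk
import Cfsg.Agent.H388.AN.Cen
import Cfsg.Agent.H109.S8.CovCore

/-!
# The block of defect one over a linear character of a central subgroup (helper109)

`N` finite, `V` central of order prime to `p`, `N / V ≃* X`, `|N|_p = p`, the elements of order `p` of `X` are
self-centralizing.

* `isComp_central` : `V` is the set of `p`-regular elements of `C_N(P)`;
* `exists_block` : the `e` non-exceptional and `(p - 1) / e` exceptional characters over `l`, `l` linear on `V`.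
-/

set_option autoImplicit false
set_option linter.unusedSectionVars false

open Cfsg
open scoped ComplexConjugate

namespace Cfsg.Agent.H109.S8

open Subgroup
open Cfsg.Agent.Characters.Core
open Cfsg.Agent.SmallSimple.ThetaSetup
open Cfsg.Agent.SmallSimple.ThetaOrtho
open Cfsg.Agent.SmallSimple.TheoremC Cfsg.Agent.SmallSimple.TheoremCCor

universe u v

variable {N : Type u} [Group N] [Finite N] {X : Type v} [Group X] {p : ℕ} [hp : Fact p.Prime]

theorem isComp_central {V : Subgroup N} [V.Normal] (hV : ¬ p ∣ Nat.card V) (hc : V ≤ center N) (e : (N ⧸ V) ≃* X)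
    (hX : ∀ y : X, orderOf y = p → Nat.card (centralizer ({y} : Set X)) = p) {P : Subgroup N} (hP : Nat.card P = p) :
    IsComp p P V := by
  intro y
  constructor
  · intro hy
    refine ⟨Subgroup.center_le_centralizer _ (hc hy), fun h => hV (h.trans ?_)⟩
    have h1 := orderOf_dvd_natCard (⟨y, hy⟩ : V)
    rwa [Subgroup.orderOf_mk] at h1
  · rintro ⟨hy1, hy2⟩
    obtain ⟨x, hx, hx1⟩ := exists_ne_one hP
    let π : N →* X := e.toMonoidHom.comp (QuotientGroup.mk' V)
    have hker : ∀ g : N, π g = 1 ↔ g ∈ V := fun g => by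
      change e (g : N ⧸ V) = 1 ↔ _
      rw [MulEquiv.map_eq_one_iff, QuotientGroup.eq_one_iff]
    have hxp : x ^ p = 1 := by
      have h1 := orderOf_dvd_natCard (⟨x, hx⟩ : P)
      rw [Subgroup.orderOf_mk, hP] at h1
      exact orderOf_dvd_iff_pow_eq_one.1 h1
    have hπx : π x ≠ 1 := by
      intro h
      have h1 := (hker x).1 h
      apply hV
      have h2 := orderOf_dvd_natCard (⟨x, h1⟩ : V)
      rw [Subgroup.orderOf_mk, orderOf_eq_prime hxp hx1] at h2
      exact h2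
    have hox : orderOf (π x) = p := orderOf_eq_prime (by rw [← map_pow, hxp, map_one]) hπx
    have hcd := hX _ hox
    have hy3 : π y ∈ centralizer ({π x} : Set X) := by
      rw [mem_centralizer_singleton_iff, ← map_mul, ← map_mul]
      congr 1
      exact (mem_centralizer_iff.1 hy1 x hx).symm
    have h1 : orderOf (π y) ∣ p := by
      have h2 := orderOf_dvd_natCard (⟨π y, hy3⟩ : centralizer ({π x} : Set X))
      rwa [Subgroup.orderOf_mk, hcd] at h2
    rcases (Nat.dvd_prime hp.out).1 h1 with h2 | h2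
    · exact (hker y).1 (orderOf_eq_one_iff.1 h2)
    · exact absurd (h2 ▸ orderOf_map_dvd π y) hy2

theorem card_centralizer_central {V : Subgroup N} [V.Normal] (hV : ¬ p ∣ Nat.card V) (hc : V ≤ center N)
    (e : (N ⧸ V) ≃* X) (hX : ∀ y : X, orderOf y = p → Nat.card (centralizer ({y} : Set X)) = p) {P : Sylow p N}
    (hP : Nat.card P = p) {x : N} (hx : x ∈ P) (hx1 : x ≠ 1) :
    Nat.card (centralizer ({x} : Set N)) = p * Nat.card V := by
  have hK := isComp_central hV hc e hX (P := (P : Subgroup N)) hP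
  have h1 := Nat.card_congr (prodEquiv hK hP).toEquiv
  rw [Nat.card_prod] at h1
  rw [Blocks.CyclicOrtho.centralizer_eq P hP hx hx1]
  have h2 : Nat.card P * Nat.card V = Nat.card (centralizer ((P : Subgroup N) : Set N)) := h1
  rw [← h2, hP]

theorem card_sylow_eq {P : Sylow p N} {n : ℕ} (hN : Nat.card N = n) (h1 : p ∣ n) (h2 : ¬ p ^ 2 ∣ n) :
    Nat.card P = p := by
  rw [P.card_eq_multiplicity, hN]
  have hN0 : n ≠ 0 := by rw [← hN]; exact Nat.card_pos.ne'
  have h3 : n.factorization p = 1 := by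
    have h4 := (hp.out.pow_dvd_iff_le_factorization (k := 1) hN0).1 (by rwa [pow_one])
    have h5 : ¬ 2 ≤ n.factorization p := fun h => h2 ((hp.out.pow_dvd_iff_le_factorization hN0).2 h)
    omega
  rw [h3, pow_one]

/-- **The block of defect one over `l`.** -/
theorem exists_block {V : Subgroup N} [V.Normal] {r : ℕ} (hVr : Nat.card V = r) (hpr : ¬ p ∣ r) (hc : V ≤ center N)
    (eX : (N ⧸ V) ≃* X) (hX : ∀ y : X, orderOf y = p → Nat.card (centralizer ({y} : Set X)) = p) (l : V →* ℂˣ)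
    {n e t : ℕ} (hN : Nat.card N = n) (h1 : p ∣ n) (h2 : ¬ p ^ 2 ∣ n) (he : n / (p * r) % p = e) (he0 : e ≠ 0)
    (ht : e * t = p - 1) :
    ∃ (P : Sylow p N) (NE XX : Finset (IrrCharacter N)) (ε : IrrCharacter N → ℤ) (δ : ℤ),
      Nat.card P = p ∧ NE.card = e ∧ XX.card = t ∧ Disjoint NE XX ∧
      (∀ χ, χ ∈ NE ∨ χ ∈ XX → H388.AN.Over V l χ) ∧
      (∀ χ ∈ NE, ε χ = 1 ∨ ε χ = -1) ∧ (δ = 1 ∨ δ = -1) ∧
      (∀ χ ∈ NE, ∀ x : P, x ≠ 1 → (χ : N → ℂ) x = ε χ) ∧
      (∀ χ ∈ NE, (p : ℤ) ∣ ε χ * charDegree (χ : N → ℂ) - 1) ∧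
      (∀ Θ ∈ XX, (p : ℤ) ∣ δ * charDegree (Θ : N → ℂ) - e) ∧
      (∀ Θ ∈ XX, ∀ g : N, ¬ p ∣ orderOf g → ∑ χ ∈ NE, (ε χ : ℂ) * (χ : N → ℂ) g = δ * (Θ : N → ℂ) g) ∧
      (∀ χ : IrrCharacter N, H388.AN.Over V l χ → χ ∉ NE → χ ∉ XX → p ∣ charDegree (χ : N → ℂ)) := by
  classical
  haveI := Fintype.ofFinite N
  let P : Sylow p N := default
  have hP : Nat.card P = p := card_sylow_eq hN h1 h2
  have hV : ¬ p ∣ Nat.card V := by rw [hVr]; exact hpr
  have hK : IsComp p (P : Subgroup N) V := isComp_central hV hc eX hX hP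
  obtain ⟨x₀, hx₀, hx₁⟩ := exists_ne_one (P := (P : Subgroup N)) hP
  have hcx := card_centralizer_central hV hc eX hX hP hx₀ hx₁
  rw [hVr] at hcx
  have hidx := H618.LD.Blk.relIndex_eq hP hK hx₀ hx₁ hN hcx he he0
  let θ : V → ℂ := fun z => (l z : ℂ)
  have hθ : IsIrrCharacter V θ := Cfsg.Agent.H595.Central.isIrr_hom l
  have hθ1 : θ 1 = 1 := by simp [θ]
  have hst : ∀ n ∈ normalizer ((P : Subgroup N) : Set N), tw θ n = θ := by
    intro n hn
    funext y
    rw [tw_apply hK _ hn]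
    congr 1
    apply Subtype.ext
    change n * (y : N) * n⁻¹ = y
    rw [Subgroup.mem_center_iff.1 (hc y.2) n, mul_inv_cancel_right]
  have hse := card_stabAct_of_stable hK hP hθ hst
  obtain ⟨NE, XX, ε, d, S, k1, k2, k3, k4, k5, k6, k7, k8, -, -, k9⟩ := theoremC hK hP hθ (hse.trans hidx) ht
  have hover : ∀ χ : IrrCharacter N, χ ∈ SmallSimple.ThetaOrtho.Over P θ → H388.AN.Over V l χ := by
    intro χ hχ z
    obtain ⟨x, hx, hne⟩ := mem_Over.1 hχ
    obtain ⟨w, -, hw⟩ := Cfsg.Agent.CharDeep.DegreeBound.exists_omega χ.2 (hc z.2)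
    have a1 := apply_of_stable hK hP hθ hst hχ hx z
    have a2 := apply_of_stable hK hP hθ hst hχ hx 1
    rw [Subgroup.coe_one, mul_one, hθ1, mul_one] at a2
    rw [hw, a2] at a1
    have a3 : w = θ z := by
      rw [mul_comm] at a1
      exact mul_left_cancel₀ hne a1
    have a4 := hw 1
    rw [one_mul, a3] at a4
    rw [a4, mul_comm]
  have hval : ∀ χ ∈ NE, ∀ x : P, x ≠ 1 → (χ : N → ℂ) x = ε χ := by
    intro χ hχ x hx
    have a1 := apply_of_stable hK hP hθ hst ((k1 χ).2 (Or.inl hχ)) hx 1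
    rw [Subgroup.coe_one, mul_one, hθ1, mul_one, k7 χ hχ x hx] at a1
    exact a1
  have hcong : ∀ χ ∈ NE, (p : ℤ) ∣ ε χ * charDegree (χ : N → ℂ) - 1 := by
    intro χ hχ
    have a1 := SmallSimple.DegreeData.nonexc_modEq (P := (P : Subgroup N)) (p := p) hP (k5 χ hχ) (χ := χ)
      (fun x hx hx1 => hval χ hχ ⟨x, hx⟩ (fun h => hx1 (congrArg Subtype.val h)))
    exact (Int.modEq_iff_dvd.1 a1.symm)
  refine ⟨P, NE, XX, ε, d, hP, k3, k4, k2, fun χ hχ => hover χ ((k1 χ).2 hχ), k5, k6, hval, hcong, ?_, k9, ?_⟩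
  · intro Θ hΘ
    have a1 := k9 Θ hΘ 1 H618.LD.Blk.not_dvd_one
    have a2 : ∀ χ : IrrCharacter N, (χ : N → ℂ) 1 = ((charDegree (χ : N → ℂ) : ℤ) : ℂ) := fun χ => by
      rw [Blocks.Basic.irr_one_eq_charDegree χ.2]; push_cast; rfl
    rw [a2 Θ, Finset.sum_congr rfl (g := fun χ => ((ε χ * (charDegree (χ : N → ℂ) : ℤ) : ℤ) : ℂ)) (fun χ _ => by
      rw [a2 χ]; push_cast; rfl), ← Int.cast_sum] at a1
    have a3 : ∑ χ ∈ NE, ε χ * (charDegree (χ : N → ℂ) : ℤ) = d * (charDegree (Θ : N → ℂ) : ℤ) := by exact_mod_cast a1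
    have a4 : (e : ℤ) = ∑ χ ∈ NE, (1 : ℤ) := by rw [Finset.sum_const, k3]; simp
    rw [← a3, a4, ← Finset.sum_sub_distrib]
    exact Finset.dvd_sum fun χ hχ => hcong χ hχ
  · intro χ hχ hn hx
    have a1 : χ ∉ SmallSimple.ThetaOrtho.Over P θ := fun h => by
      rcases (k1 χ).1 h with h | h
      · exact hn h
      · exact hx h
    have a2 := part_eq_zero a1 (x := ⟨x₀, hx₀⟩) (fun h => hx₁ (congrArg Subtype.val h))
    -- `part θ χ x₀ = χ x₀`
    have hfV := Fintype.ofFinite V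
    rw [part_eq] at a2
    have a3 : ∀ z : V, (χ : N → ℂ) (x₀ * z) * conj (θ z) = (χ : N → ℂ) x₀ := by
      intro z
      obtain ⟨w, -, hw⟩ := Cfsg.Agent.CharDeep.DegreeBound.exists_omega χ.2 (hc z.2)
      have b1 := hw 1
      rw [one_mul, hχ z, mul_comm] at b1
      have b2 : (l z : ℂ) = w := mul_right_cancel₀ (isIrr_apply_one_ne_zero χ.2) b1
      have b3 : ((l z⁻¹ : ℂˣ) : ℂ) = conj (θ z) :=
        isCharacter_apply_inv (isIrr_isCharacter (Cfsg.Agent.H595.Central.isIrr_hom l)) z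
      rw [hw, ← b3, ← b2, map_inv]
      have b4 : (l z : ℂ) * ((l z)⁻¹ : ℂˣ) = 1 := by rw [← Units.val_mul, mul_inv_cancel, Units.val_one]
      linear_combination (χ : N → ℂ) x₀ * b4
    rw [Finset.sum_congr rfl fun z _ => a3 z, Finset.sum_const, Finset.card_univ, nsmul_eq_mul,
      ← Nat.card_eq_fintype_card, ← mul_assoc, inv_mul_cancel₀ (by exact_mod_cast Nat.card_pos.ne'), one_mul] at a2
    -- congruence
    obtain ⟨M, hM⟩ := Blocks.ExistsModular.exists_isPModular hp.out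
    have hox : orderOf x₀ = p ^ 1 := by rw [pow_one]; exact Blocks.CyclicOrtho.orderOf_eq P hP hx₀ hx₁
    have a4 := H618.LD.Blk.int_cong (p := p) χ (g := x₀) (x := x₀) (y := 1) (mul_one _) (Commute.one_right _) hox
      H618.LD.Blk.not_dvd_one (m := 0) (n := (charDegree (χ : N → ℂ) : ℤ)) (by rw [Int.cast_zero]; exact a2)
      (by rw [Blocks.Basic.irr_one_eq_charDegree χ.2]; push_cast; rfl)
    rw [zero_sub, dvd_neg] at a4
    exact_mod_cast a4

end Cfsg.Agent.H109.S8
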