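import Cfsg.Agent.H109.S8.CentBlock
import Cfsg.Agent.H618.LD.Prin2
import Cfsg.Agent.NotCT.Orders

/-!
# S4908, `Fi₂₂`, COVER at `3`: the block of defect one at 13 (helper109)

* `dvd_of_over` : `r ∣ χ(1)`, `χ(1) ∣ |X|` for the characters over a nontrivial linear character of `V`;
* `block13` : (N1) of helper494.
-/

set_option autoImplicit false

open Cfsg

namespace Cfsg.Agent.H109.S8

open Subgroup
open Cfsg.Agent.Characters.Core Cfsg.Agent.H424.DegTools Cfsg.Agent.H388.AN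

universe u v

/-- (N2) the degrees over a nontrivial linear character -/
theorem dvd_of_over {N : Type u} [Group N] [Finite N] {X : Type v} [Group X] {V : Subgroup N} [V.Normal] {r : ℕ}
    (hr : r.Prime) (hV : Nat.card V = r) (hc : V ≤ center N) (hp : commutator N = ⊤) (e : (N ⧸ V) ≃* X) {l : V →* ℂˣ}
    (hl : ∃ v, l v ≠ 1) {χ : IrrCharacter N} (hχ : Over V l χ) :
    r ∣ charDegree (χ : N → ℂ) ∧ charDegree (χ : N → ℂ) ∣ Nat.card X := by
  obtain ⟨v, hv⟩ := hl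
  constructor
  · have h2 : (l v) ^ r = 1 := by
      rw [← map_pow, ← hV, pow_card_eq_one', map_one]
    haveI : Fact r.Prime := ⟨hr⟩
    have h3 : orderOf (l v) = r := orderOf_eq_prime h2 hv
    have h4 := pow_deg_eq_one hp χ.2 (Blocks.Basic.irr_one_eq_charDegree χ.2) (hc v.2) (hχ v)
    rw [← h3]
    apply orderOf_dvd_of_pow_eq_one
    apply Units.ext
    rw [Units.val_pow_eq_pow_val, Units.val_one]
    exact h4
  · rw [← index_of_equiv V e]
    refine ito ⟨χ, rfl⟩ V fun a ha b _ => ?_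
    exact (Subgroup.mem_center_iff.1 (hc ha) b).symm

namespace Fi22N

/-- (N1) the block at 13 -/
theorem block13 {N : Type u} [Group N] [Finite N] {X : Type v} [Group X] (hX : Spor.IsoFi22 X) {V : Subgroup N}
    [V.Normal] (hV : Nat.card V = 3) (hc : V ≤ center N) (e : (N ⧸ V) ≃* X) (l : V →* ℂˣ) :
    ∃ (NE XX : Finset (IrrCharacter N)) (ε : IrrCharacter N → ℤ) (δ : ℤ),
      NE.card = 6 ∧ XX.card = 2 ∧ Disjoint NE XX ∧
      (∀ χ, χ ∈ NE ∨ χ ∈ XX → Over V l χ) ∧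
      (∀ χ ∈ NE, ε χ = 1 ∨ ε χ = -1) ∧ (δ = 1 ∨ δ = -1) ∧
      (∀ χ ∈ NE, (13 : ℤ) ∣ ε χ * charDegree (χ : N → ℂ) - 1) ∧
      (∀ Θ ∈ XX, (13 : ℤ) ∣ δ * charDegree (Θ : N → ℂ) - 6) ∧
      (∀ Θ ∈ XX, ∀ g : N, ¬ 13 ∣ orderOf g → ∑ χ ∈ NE, (ε χ : ℂ) * (χ : N → ℂ) g = δ * (Θ : N → ℂ) g) ∧
      (∀ χ : IrrCharacter N, Over V l χ → χ ∉ NE → χ ∉ XX → 13 ∣ charDegree (χ : N → ℂ)) := by
  have : Fact (Nat.Prime 13) := ⟨by norm_num⟩
  obtain ⟨f⟩ := hX
  have hXc : Nat.card X = 64561751654400 := NotCT.Orders.fi22 ⟨f⟩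
  have hfX : Finite X := Finite.of_equiv _ e.toEquiv
  have hNc : Nat.card N = 193685254963200 := by
    have h1 := V.card_mul_index
    rw [hV, index_of_equiv V e, hXc] at h1
    omega
  obtain ⟨P, NE, XX, ε, δ, -, h1, h2, h3, h4, h5, h6, -, h8, h9, h10, h11⟩ :=
    exists_block (p := 13) (n := 193685254963200) (e := 6) (t := 2) hV (by norm_num) hc e
      (fun y hy => H713.Spor.Fi22.cent_13 f hy) l hNc (by norm_num) (by norm_num) (by norm_num) (by norm_num)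
      (by norm_num)
  exact ⟨NE, XX, ε, δ, h1, h2, h3, h4, h5, h6, h8, h9, h10, h11⟩

end Fi22N

end Cfsg.Agent.H109.S8
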