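import Cfsg.Agent.H109.S8.CovCore
import Cfsg.Agent.H109.S8.AutDeg

/-!
# S4908, `M22`: the double cover (helper109)

`cover2` : a perfect central extension of `M22` by a group of order two has a faithful irreducible character of degree
`d` with no `d 2 ^ i` a degree of `M22` or `Aut M22`: all these degrees are even, so the bad ones are divisible by `7`
or equal to `90`; `443520 ≡ 21`, `90² ≡ 15` modulo `49`, and there are at most `12` characters.
-/

set_option autoImplicit false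

open Cfsg Cfsg.Agent.Characters.Core Cfsg.Agent.H424.DegTools

namespace Cfsg.Agent.H109.S8

universe u v

theorem card_classes_m22 {X : Type v} [Group X] (hX : Cfsg.IsM22 X) : Nat.card (ConjClasses X) = 12 := by
  have := finite_m22 hX
  obtain ⟨f, -⟩ := H417.DegMTwentyTwo.exists_enum hX
  have := finite_irr (G := X)
  have := Fintype.ofFinite (IrrCharacter X)
  have h1 := Nat.card_congr f
  rw [Nat.card_eq_fintype_card, Fintype.card_fin] at h1
  rw [h1]
  exact (card_irr (G := X)).symm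

theorem bad_two {d i : ℕ} (h2 : 2 ∣ d)
    (h : d * 2 ^ i ∈ ({1, 21, 45, 55, 90, 99, 154, 210, 231, 280, 385, 560} : Set ℕ)) : 7 ∣ d ∨ d = 90 := by
  have key : ∀ n : ℕ, 7 ∣ n → d * 2 ^ i = n → 7 ∣ d := by
    intro n h7 hn
    rw [← hn] at h7
    refine (Nat.Coprime.dvd_of_dvd_mul_right ?_ h7)
    exact Nat.Coprime.pow_right i (by norm_num)
  obtain ⟨k, rfl⟩ := h2
  simp only [Set.mem_insert_iff, Set.mem_singleton_iff] at h
  have h3 : 2 * k * 2 ^ i = 2 * (k * 2 ^ i) := by ring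
  rcases h with h | h | h | h | h | h | h | h | h | h | h | h
  · rw [h3] at h; omega
  · rw [h3] at h; omega
  · rw [h3] at h; omega
  · rw [h3] at h; omega
  · right
    rcases i with _ | i
    · simpa using h
    · rw [pow_succ] at h
      have h4 : 2 * k * (2 ^ i * 2) = 4 * (k * 2 ^ i) := by ring
      rw [h4] at h
      omega
  · rw [h3] at h; omega
  · exact Or.inl (key _ (by norm_num) h)
  · exact Or.inl (key _ (by norm_num) h)
  · rw [h3] at h; omega
  · exact Or.inl (key _ (by norm_num) h)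
  · rw [h3] at h; omega
  · exact Or.inl (key _ (by norm_num) h)

theorem cover2 {X : Type v} [Group X] (hX : Cfsg.IsM22 X) {D : Set ℕ} (hD : Cfsg.Agent.H704.S8.Deg 2 X D)
    {N : Type u} [Group N] [Finite N] (V : Subgroup N) [V.Normal] (hV : Nat.card V = 2)
    (hc : V ≤ Subgroup.center N) (hp : commutator N = ⊤) (e : Nonempty ((N ⧸ V) ≃* X)) :
    ∃ (χ : N → ℂ) (d : ℕ), IsIrrCharacter N χ ∧ (∃ v ∈ V, χ v ≠ χ 1) ∧ χ 1 = d ∧
      ∀ i : ℕ, d * 2 ^ i ∉ D ∧ 2 * (d * 2 ^ i) ∉ D := by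
  obtain ⟨e⟩ := e
  refine cover_of V Nat.prime_two hV hc hp e ?_
  intro S h1 h2 h3 h4
  rw [card_classes_m22 hX] at h4
  rw [hX.2] at h3
  have hsub := deg_sub hX hD
  have h5 : ∀ χ ∈ S, 7 ∣ charDegree (χ : N → ℂ) ∨ charDegree (χ : N → ℂ) = 90 := by
    intro χ hχ
    obtain ⟨i, hi | hi⟩ := h2 χ hχ
    · exact bad_two (h1 χ hχ) (hsub _ hi)
    · refine bad_two (i := i + 1) (h1 χ hχ) (hsub _ ?_)
      have h6 : charDegree (χ : N → ℂ) * 2 ^ (i + 1) = 2 * (charDegree (χ : N → ℂ) * 2 ^ i) := by ring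
      rwa [h6]
  classical
  set q : IrrCharacter N → ℕ := fun χ => if charDegree (χ : N → ℂ) = 90 then 1 else 0 with hq
  have h6 : ∀ χ ∈ S, (49 : ℤ) ∣ (charDegree (χ : N → ℂ) : ℤ) ^ 2 - 8100 * (q χ : ℤ) := by
    intro χ hχ
    simp only [hq]
    by_cases h9 : charDegree (χ : N → ℂ) = 90
    · rw [if_pos h9, h9]
      norm_num
    · rw [if_neg h9]
      obtain ⟨k, hk⟩ := (h5 χ hχ).resolve_right h9
      rw [hk]
      exact ⟨(k : ℤ) ^ 2, by push_cast; ring⟩
  have h7 := Finset.dvd_sum h6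
  rw [Finset.sum_sub_distrib, ← Finset.mul_sum] at h7
  have h8 : ∑ χ ∈ S, (charDegree (χ : N → ℂ) : ℤ) ^ 2 = 443520 := by exact_mod_cast h3
  have h9 : ∑ χ ∈ S, q χ ≤ 12 := by
    refine le_trans (Finset.sum_le_card_nsmul S q 1 fun χ _ => ?_) ?_
    · simp only [hq]
      split_ifs <;> omega
    · simpa using h4
  rw [h8, ← Nat.cast_sum] at h7
  generalize ∑ χ ∈ S, q χ = n at h7 h9
  omega

end Cfsg.Agent.H109.S8
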