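import Cfsg.Agent.H109.S8.M22C2
import Cfsg.Agent.H529.S8.Cov

/-!
# S4908, `M22`: the row COVER for the prime two in the final form (helper109)
-/

set_option autoImplicit false

open Cfsg

namespace Cfsg.Agent.H109.S8

universe u v

/-- **M22, COVER at the prime two** -/
theorem coverAt_two {X : Type v} [Group X] (hX : Cfsg.IsM22 X) {D : Set ℕ} (hD : Cfsg.Agent.H704.S8.Deg 2 X D) :
    Cfsg.Agent.H529.S8.CoverAt.{u} 2 2 D X := by
  intro N _ _ V _ hV hc hp e i _
  obtain ⟨χ, d, h1, h2, h3, h4⟩ := cover2 hX hD V hV hc hp e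
  exact ⟨χ, d, h1, h2, h3, (h4 i).1, Or.inl (h4 i).2⟩

end Cfsg.Agent.H109.S8
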