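import Cfsg.Agent.H450.S8.MTwentyTwoFrob
import Cfsg.Agent.H213.S8.M22K
import Cfsg.Agent.H829.S8.Idx22
import Cfsg.Agent.H911.S8.MIdx

/-!
# S4908: the row FROB of `M22`, assembled from the pieces of helper213, helper829, helper911, helper450 (helper109)
-/

set_option autoImplicit false

open Cfsg Cfsg.Agent.H704.S8

namespace Cfsg.Agent.H109.S8.M22

universe v

theorem k22 (T : Subgroup Spor.M22) (h : T.index = 22) : Nat.card (ConjClasses T) ≤ 11 := by
  obtain ⟨p, h1, h2, rfl⟩ := H829.S8.idx22 T h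
  exact (H213.S8.MTwentyTwo.k_point h1 h2).trans (by norm_num)

theorem k77 (T : Subgroup Spor.M22) (h : T.index = 77) : Nat.card (ConjClasses T) ≤ 38 := by
  obtain ⟨o, h1, h2, h3, rfl⟩ := H911.S8.idx77 T h
  exact (H213.S8.MTwentyTwo.k_hexad h1 h2 h3).trans (by norm_num)

/-- **FROB for `M22`** -/
theorem frob {X : Type v} [Group X] (B : H940.Eng.Base) (h : Spor.IsoM22 X) {D : Set ℕ} (hD : Deg 2 X D) :
    FrobRow 2 D X :=
  H450.S8.MTwentyTwo.frob_M22 B k22 k77 h hD

end Cfsg.Agent.H109.S8.M22
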