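import Cfsg.Agent.H196.S8.Core
import Cfsg.Agent.H109.S8.AutDeg
import Cfsg.Agent.H672.SporIM.RankRows
import Cfsg.Agent.H765.DS.HSMcL
import Cfsg.Agent.H603.FD.Spor
import Cfsg.Agent.H678.DG.Tits
import Cfsg.Agent.H707.RowTits
import Cfsg.Agent.NotCT.Orders
import Cfsg.Agent.H417.RecogMathieu

/-!
# S4908: the row SOC1 of `M22` (helper109)

The degrees of `M22` and `Aut M22` lie in `{1, 21, 45, 55, 90, 99, 154, 210, 231, 280, 385, 560}`: no prime power, no
`m - 1` for `7 ≤ m ≤ 12`, no degree (or twice it) of another sporadic group of order prime to `13`, `17`, `19`, `23`, …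
-/

set_option autoImplicit false

namespace Cfsg.Agent.H109.S8.M22

open Cfsg Subgroup
open Cfsg.Agent.H691.AN (AlmostSimple)
open Cfsg.Agent.H196.S8

universe u v

/-- the admissible degrees -/
def LM : List ℕ := [1, 21, 45, 55, 90, 99, 154, 210, 231, 280, 385, 560]

theorem mem_LM {X : Type v} [Group X] (hX : Cfsg.IsM22 X) {D : Set ℕ} (hD : Cfsg.Agent.H704.S8.Deg 2 X D) {d : ℕ}
    (hd : d ∈ D) : d ∈ LM := by
  have h := deg_sub hX hD d hd
  simpa [LM] using h

theorem low_chk : ∀ x ∈ LM, x ≤ 560 ∧ x ∣ 55440 ∧ x ∉ [6, 7, 8, 9, 10, 11, 20, 16, 32, 36, 72, 22, 44, 78, 156] := by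
  decide

theorem no_pp {r v : ℕ} (hr : r.Prime) (hv : 0 < v) (h : r ^ v ∈ LM) : False := by
  have key : ∀ x ∈ LM, x = 1 ∨ ∃ p ∈ [2, 3, 5, 7, 11], ∃ q ∈ [2, 3, 5, 7, 11], p ≠ q ∧ p ∣ x ∧ q ∣ x := by decide
  rcases key _ h with h1 | ⟨p, hp, q, hq, hpq, h2, h3⟩
  · exact (Nat.one_lt_pow hv.ne' hr.one_lt).ne' h1
  · have hpr : ∀ x ∈ [2, 3, 5, 7, 11], x.Prime := by
      intro x hx
      simp only [List.mem_cons, List.not_mem_nil, or_false] at hx
      rcases hx with rfl | rfl | rfl | rfl | rfl <;> norm_num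
    have h4 := (Nat.prime_dvd_prime_iff_eq (hpr p hp) hr).1 ((hpr p hp).dvd_of_dvd_pow h2)
    have h5 := (Nat.prime_dvd_prime_iff_eq (hpr q hq) hr).1 ((hpr q hq).dvd_of_dvd_pow h3)
    exact hpq (h4.trans h5.symm)

section

variable {A : Type u} [Group A] [Finite A] {S : Subgroup A} (hA : AlmostSimple A S)
  (hD : ∀ d ∈ charDegrees A, d ∈ LM)

include hA hD

theorem pr {p : ℕ} (hp : p.Prime) (hd : p ∣ Nat.card S) : p ∣ 55440 := by
  obtain ⟨d, h1, h2⟩ := prime_deg hA hp hd
  exact h2.trans (low_chk d (hD d h1)).2.1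

theorem two (hout : Nat.card (Out S) ≤ 2) {a : ℕ} (ha : a ∈ charDegrees S) (h1 : a ∉ LM) (h2 : 2 * a ∉ LM) :
    False := by
  rcases two_deg hA hout ha with h | h
  · exact h1 (hD _ h)
  · exact h2 (hD _ h)

theorem lie {r : ℕ} (hr : r.Prime) (h : IsLieTypeChar r S) : False := by
  obtain ⟨v, hv, h1⟩ := lie_pp hA hr h
  exact no_pp hr hv (hD _ h1)

theorem alt {m : ℕ} (hm : 5 ≤ m) (e : S ≃* alternatingGroup (Fin m)) : False := by
  rcases Nat.lt_or_ge m 7 with h7 | h7
  · have : m = 5 ∨ m = 6 := by omega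
    rcases this with rfl | rfl
    · exact lie hA hD (by norm_num) (lie_five e)
    · exact lie hA hD (r := 3) (by norm_num) (H679.isLie_six ⟨e⟩)
  · have h18 : m ≤ 12 := by
      by_contra hcon
      have h1 := pr hA hD (p := 13) (by norm_num)
        (by rw [Nat.card_congr e.toEquiv]; exact prime_dvd_alt (by norm_num) (by norm_num) hm (by omega))
      norm_num at h1
    have h1 := hD _ (alt_deg hA h7 e)
    refine (low_chk _ h1).2.2 ?_
    interval_cases m <;> decide

theorem tits (h : Lie.IsoTits S) : False := by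
  have hout := H489.card_out_tits h
  obtain ⟨e⟩ := h
  obtain ⟨f⟩ := H707.RowTits.equiv
  exact two hA hD hout (mem_of_equiv (e.trans f) H678.DG.Tits.deg_78) (by decide) (by decide)

theorem spor (h : IsSporadicGroup S) : Spor.IsoM22 S := by
  have hout := H489.card_out_sporadic h
  have key : ∀ {a : ℕ}, a ∈ charDegrees S → a ∉ LM → 2 * a ∉ LM → Spor.IsoM22 S :=
    fun ha h1 h2 => (two hA hD hout ha h1 h2).elim
  have kp : ∀ {p N : ℕ}, p.Prime → Nat.card S = N → p ∣ N → ¬ p ∣ 55440 → Spor.IsoM22 S :=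
    fun hp h1 h2 h3 => (h3 (pr hA hD hp (by rw [h1]; exact h2))).elim
  rcases h with h | h | h | h | h | h | h | h | h | h | h | h | h | h | h | h | h | h | h | h | h | h | h | h | h | h
  · exact key (H603.FD.Spor.m11 (UGT.End.MEleven.isM11 h)).1 (by decide) (by decide)
  · exact key (H603.FD.Spor.m12 (H603.FD.Spor.isM12 h)).1 (by decide) (by decide)
  · exact h
  · exact kp (p := 23) (by norm_num) (NotCT.Orders.m23 h) (by norm_num) (by norm_num)
  · exact kp (p := 23) (by norm_num) (NotCT.Orders.m24 h) (by norm_num) (by norm_num)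
  · exact kp (p := 19) (by norm_num) (NotCT.Orders.j1 h) (by norm_num) (by norm_num)
  · exact key (H672.SporIM.j2 h).2 (by decide) (by decide)
  · exact kp (p := 19) (by norm_num) (NotCT.Orders.j3 h) (by norm_num) (by norm_num)
  · exact kp (p := 43) (by norm_num) (NotCT.Orders.j4 h) (by norm_num) (by norm_num)
  · exact kp (p := 23) (by norm_num) (NotCT.Orders.co1 h) (by norm_num) (by norm_num)
  · exact kp (p := 23) (by norm_num) (NotCT.Orders.co2 h) (by norm_num) (by norm_num)
  · exact kp (p := 23) (by norm_num) (NotCT.Orders.co3 h) (by norm_num) (by norm_num)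
  · exact key (mem_of_irr (H765.DS.HSMcL.mcl_22 h)) (by decide) (by decide)
  · exact key (mem_of_irr (H765.DS.HSMcL.hs_22 h)) (by decide) (by decide)
  · exact kp (p := 13) (by norm_num) (NotCT.Orders.suz h) (by norm_num) (by norm_num)
  · exact kp (p := 17) (by norm_num) (NotCT.Orders.he h) (by norm_num) (by norm_num)
  · exact kp (p := 29) (by norm_num) (NotCT.Orders.ru h) (by norm_num) (by norm_num)
  · exact kp (p := 31) (by norm_num) (NotCT.Orders.on h) (by norm_num) (by norm_num)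
  · exact kp (p := 67) (by norm_num) (NotCT.Orders.ly h) (by norm_num) (by norm_num)
  · exact kp (p := 13) (by norm_num) (NotCT.Orders.fi22 h) (by norm_num) (by norm_num)
  · exact kp (p := 23) (by norm_num) (NotCT.Orders.fi23 h) (by norm_num) (by norm_num)
  · exact kp (p := 29) (by norm_num) (NotCT.Orders.fi24 h) (by norm_num) (by norm_num)
  · exact kp (p := 19) (by norm_num) (NotCT.Orders.hn h) (by norm_num) (by norm_num)
  · exact kp (p := 31) (by norm_num) (NotCT.Orders.th h) (by norm_num) (by norm_num)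
  · exact kp (p := 47) (by norm_num) (NotCT.Orders.b h) (by norm_num) (by norm_num)
  · exact kp (p := 71) (by norm_num) (NotCT.Orders.m h) (by norm_num) (by norm_num)

theorem main : Spor.IsoM22 S := by
  have := hA.simple
  rcases exists_split S hA.nonab with ⟨l, hl, ⟨e⟩⟩ | ⟨r, hr, h⟩ | h | h
  · exact (alt hA hD hl e).elim
  · exact (lie hA hD hr h).elim
  · exact (tits hA hD h).elim
  · exact spor hA hD h

end

/-- **SOC1 for `M22`** -/
theorem soc1 {X : Type v} [Group X] (hX : Cfsg.IsM22 X) {D : Set ℕ} (hD : H704.S8.Deg 2 X D) :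
    H704.S8.Soc1.{u} D X := by
  intro A _ _ S hA h
  have := finite_m22 hX
  obtain ⟨e⟩ := main hA fun d hd => mem_LM hX hD (h hd)
  obtain ⟨f⟩ := S1663.result hX
  exact ⟨e.trans f.symm⟩

end Cfsg.Agent.H109.S8.M22
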