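import Cfsg.Agent.H109.S8.M22Frob
import Cfsg.Agent.H109.S8.M22Soc
import Cfsg.Agent.H206.S8.M22Cov
import Cfsg.Agent.H682.S8.M22Out
import Cfsg.Agent.H242.S8.MTwentyTwo
import Cfsg.Agent.H450.S8.RowsSmall
import Cfsg.Agent.H529.S8.RowFour
import Cfsg.Agent.H529.S8.Row
import Cfsg.Agent.H536.K4.Ly

/-!
# S4908: the row of `M22` (helper109)

The pieces: OUT helper682, SOLV helper242, SOC1 helper109, SOC2 helper450, FROB helper213, helper829, helper911,
helper450, COVER helper109, helper206.
-/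

set_option autoImplicit false

open Cfsg Cfsg.Agent.H704.S8

namespace Cfsg.Agent.H109.S8.M22

universe u v

/-- **the row of `M22`** -/
theorem row4 {X : Type v} [Group X] [Finite X] (hX : IsM22 X) : H529.S8.Row4.{u, v} 2 X :=
  H529.S8.row_of4 (H58.S8.mo_m22 hX) (H682.S8.M22.out (S1663.result hX)).2
    (fun _ hD => H242.S8.MTwentyTwo.solv (S1663.result hX) hD) (fun _ hD => soc1 hX hD)
    (fun _ hD => H450.S8.soc2_m22 hX hD)
    (fun _ hD => H529.S8.noNon_of_frob hX.1 (by rw [hX.2]; norm_num) (by norm_num) (H58.S8.mo_m22 hX) hD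
      (frob H536.K4.Ly.base (S1663.result hX) hD))
    (fun D hD => Cover.final (D := D) (X := X) (fun V _ r a b c d e => H206.S8.m22_cover hX hD V r a b c d e))

/-- the row of `M22`, with `Chief` -/
theorem row3 {X : Type v} [Group X] [Finite X] (hX : IsM22 X) : Row3.{u, v} 2 X :=
  H529.S8.row_of (H58.S8.mo_m22 hX) (H682.S8.M22.out (S1663.result hX)).2
    (fun _ hD => H242.S8.MTwentyTwo.solv (S1663.result hX) hD) (fun _ hD => soc1 hX hD)
    (fun _ hD => H450.S8.soc2_m22 hX hD) (fun _ hD => frob H536.K4.Ly.base (S1663.result hX) hD)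
    (fun D hD => Cover.final (D := D) (X := X) (fun V _ r a b c d e => H206.S8.m22_cover hX hD V r a b c d e))

end Cfsg.Agent.H109.S8.M22
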